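import Groth.Agent.Lib.KoszulColon25.Basic

/-!
# The determinant of a change of generators is well defined modulo the smaller ideal
-/

set_option linter.style.haveILetI false
universe u

open Groth.Agent.CanElt (KObj kd k0)

noncomputable section

namespace Groth.Agent.GorInv28

open KoszulColon25

variable {Q : Type u} [CommRing Q]

theorem ext_zero : ∀ m, ext m (0 : Fin m → Q) = fun _ => 0
  | 0 => rfl
  | m + 1 => funext fun i => by
    cases i with
    | zero => rfl
    | succ i => exact congrFun (ext_zero m) i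

theorem sM_shift_zero {n : ℕ} (g : Fin (n + 1) → Q) (w : Fin n → Q) (x : KObj Q Q (fl n (Fin.tail g)) 0) :
    sM (fl (n + 1) g) (ext (n + 1) (Fin.cons 0 w)) 0 x = (sM (fl n (Fin.tail g)) (ext n w) 0 x, 0) :=
  Prod.ext rfl (zero_smul Q x)

theorem sM_shift_succ {n : ℕ} (g : Fin (n + 1) → Q) (w : Fin n → Q) (k : ℕ)
    (a : KObj Q Q (fl n (Fin.tail g)) (k + 1)) :
    sM (fl (n + 1) g) (ext (n + 1) (Fin.cons 0 w)) (k + 1) (a, 0) = (sM (fl n (Fin.tail g)) (ext n w) (k + 1) a, 0) :=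
  Prod.ext rfl ((congrArg₂ (· - ·) (zero_smul Q a)
    (map_zero (sM (fl n (Fin.tail g)) (ext n w) k))).trans (sub_zero 0))

theorem wedge_shift : ∀ {n : ℕ} (g : Fin (n + 1) → Q) (m : ℕ) (v : Fin (m + 1) → Fin n → Q),
    wedge g (m + 1) (fun i => Fin.cons 0 (v i)) = (wedge (Fin.tail g) (m + 1) v, 0)
  | n, g, 0, v => sM_shift_zero g (v 0) _
  | n, g, m + 1, v =>
    (congrArg (sM (fl (n + 1) g) (ext (n + 1) (Fin.cons 0 (v 0))) (m + 1)) (wedge_shift g m (Fin.tail v))).trans
      (sM_shift_succ g (v 0) m _)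

theorem τ_wedge_one : ∀ (n : ℕ) (g : Fin n → Q), τ n g (wedge g n (1 : Matrix (Fin n) (Fin n) Q)) = 1
  | 0, g => rfl
  | 1, g => (congrArg (· * (1 : Q)) (show ext 1 ((1 : Matrix (Fin 1) (Fin 1) Q) 0) 0 = 1 from
      Matrix.one_apply_eq 0)).trans (one_mul 1)
  | n + 2, g => by
    have htail : Fin.tail (1 : Matrix (Fin (n + 2)) (Fin (n + 2)) Q) =
        fun i => Fin.cons (0 : Q) ((1 : Matrix (Fin (n + 1)) (Fin (n + 1)) Q) i) := by
      funext i j
      refine Fin.cases ?_ (fun j => ?_) j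
      · simp [Fin.tail, Fin.succ_ne_zero]
      · simp [Fin.tail, Matrix.one_apply]
    have h1 : wedge g (n + 1) (Fin.tail (1 : Matrix (Fin (n + 2)) (Fin (n + 2)) Q)) =
        (wedge (Fin.tail g) (n + 1) (1 : Matrix (Fin (n + 1)) (Fin (n + 1)) Q), 0) := by
      rw [htail]; exact wedge_shift g n _
    refine (congrArg (fun z => τ (n + 2) g (sM (fl (n + 2) g)
      (ext (n + 2) ((1 : Matrix (Fin (n + 2)) (Fin (n + 2)) Q) 0)) (n + 1) z)) h1).trans ?_
    change τ (n + 1) (Fin.tail g) ((1 : Matrix (Fin (n + 2)) (Fin (n + 2)) Q) 0 0 •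
      wedge (Fin.tail g) (n + 1) (1 : Matrix (Fin (n + 1)) (Fin (n + 1)) Q) - sM _ _ n 0) = 1
    rw [map_zero, sub_zero, map_smul, τ_wedge_one (n + 1), smul_eq_mul, mul_one, Matrix.one_apply_eq]

theorem τ_wedge {n : ℕ} (g : Fin n → Q) (c : Matrix (Fin n) (Fin n) Q) : τ n g (wedge g n c) = c.det := by
  obtain ⟨e, he⟩ := exists_τ_wedge_eq_det_mul g
  have := (he 1).symm.trans (τ_wedge_one n g)
  rw [Matrix.det_one, one_mul] at this
  rw [he, this, mul_one]

/-- Two ways of writing `f` in terms of a regular sequence `g` have the same determinant modulo `(f)`. -/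
theorem det_sub_det_mem {n : ℕ} (f g : Fin n → Q) (c c' : Matrix (Fin n) (Fin n) Q)
    (hc : ∀ i, f i = ∑ j, c i j * g j) (hc' : ∀ i, f i = ∑ j, c' i j * g j)
    (hg : CI2.Ex Q Q (List.ofFn g)) : c.det - c'.det ∈ Ideal.span (Set.range f) := by
  rw [← fl_eq] at hg
  let lf := fl n f
  let lg := fl n g
  have hlf : Ideal.ofList lf = Ideal.span (Set.range f) := by
    rw [show lf = List.ofFn f from fl_eq n f]
    exact congrArg Ideal.span (by ext x; simp [List.mem_ofFn])
  let v : Matrix (Fin n) (Fin n) Q → Fin n → ℕ → Q := fun c i => ext n (c i)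
  have hv : ∀ (c : Matrix (Fin n) (Fin n) Q), (∀ i, f i = ∑ j, c i j * g j) → ∀ i, ev lg (v c i) = f i :=
    fun c hc i => by rw [ev_ext, hc]
  let θ : ∀ k, KObj Q Q lf k →ₗ[Q] KObj Q Q lg k := fun k => φ lg n f (v c) k - φ lg n f (v c') k
  have hθ : ∀ k z, kd Q Q lg k (θ (k + 1) z) = θ k (kd Q Q lf k z) := fun k z => by
    simp only [θ, LinearMap.sub_apply, map_sub, φ_kd lg n f _ (hv c hc), φ_kd lg n f _ (hv c' hc')]
    rfl
  have hθ0 : ∀ x, θ 0 x = 0 := fun x => by
    apply (k0 Q Q lg).injective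
    rw [map_zero]
    simp only [θ, LinearMap.sub_apply, map_sub]
    erw [φ_zero, φ_zero]
    exact sub_self _
  have hom : ∀ k, ∃ h : KObj Q Q lf k →ₗ[Q] KObj Q Q lg (k + 1),
      ∀ z, kd Q Q lg k (θ (k + 1) z - h (kd Q Q lf k z)) = 0 := by
    intro k
    induction k with
    | zero => exact ⟨0, fun z => by rw [LinearMap.zero_apply, sub_zero, hθ, hθ0]⟩
    | succ k ih =>
      obtain ⟨h, hh⟩ := ih
      haveI := CanElt.projective_KObj Q Q lf (k + 1)
      obtain ⟨h', hh'⟩ := Module.projective_lifting_property (kd Q Q lg (k + 1)).rangeRestrict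
        ((θ (k + 1) - h.comp (kd Q Q lf k)).codRestrict _ fun z => hg k _ (hh z))
        (kd Q Q lg (k + 1)).surjective_rangeRestrict
      refine ⟨h', fun z => ?_⟩
      have h1 := congrArg Subtype.val (LinearMap.congr_fun hh' (kd Q Q lf (k + 1) z))
      change kd Q Q lg (k + 1) (h' _) = θ (k + 1) _ - h (kd Q Q lf k _) at h1
      rw [map_sub, h1, CanElt.kd_kd, map_zero, sub_zero, hθ, sub_self]
  have key : τ n g (θ n (ω n f)) ∈ Ideal.span (Set.range f) := by
    rcases n with _ | m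
    · rw [hθ0, map_zero]; exact zero_mem _
    · obtain ⟨h, hh⟩ := hom m
      obtain ⟨w, hw⟩ := hg m _ (hh (ω (m + 1) f))
      haveI := subsingleton_above (m + 1) g
      have hz : kd Q Q lg (m + 1) w = 0 := by
        rw [show w = (0 : KObj Q Q (fl (m + 1) g) (m + 1 + 1)) from Subsingleton.elim _ _, map_zero]
      rw [hz] at hw
      rw [sub_eq_zero.1 hw.symm]
      have hmem := Submodule.mem_map_of_mem (f := (τ (m + 1) g).comp h)
        (CanElt.range_kd_le Q Q lf m ⟨ω (m + 1) f, rfl⟩)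
      rw [Submodule.map_smul''] at hmem
      have := Submodule.smul_mono le_rfl le_top hmem
      rwa [smul_eq_mul, Ideal.mul_top, hlf] at this
  simp only [θ, LinearMap.sub_apply, map_sub] at key
  rw [φ_ω g n f c, φ_ω g n f c', τ_wedge, τ_wedge] at key
  exact key

end Groth.Agent.GorInv28
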