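import Groth.Agent.Lib.GorInv28.Local
import Groth.Agent.Lib.Ver21.PolyVer
import Groth.Agent.Lib.Ver21.Gor
import Groth.Agent.Lib.GrLC21.GorenTop

/-!
# From the vertex to every prime
-/

open MvPolynomial DirectSum
open Groth.Agent.GrLC21

set_option maxSynthPendingDepth 3

universe u

namespace Groth.Agent.GorInv28

variable {k : Type u} [Field k] {n : ℕ} {G : Type u} [Group G] [Finite G]
  [MulSemiringAction G (MvPolynomial (Fin n) k)] (hl : IsLinearAction (k := k) (n := n) G)

include hl in
omit [Finite G] in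
lemma smul_mem_polyGr (g : G) {d : ℤ} {p : MvPolynomial (Fin n) k} (hp : p ∈ Ver21.polyGr k n d) :
    g • p ∈ Ver21.polyGr k n d := by
  rcases lt_or_ge d 0 with hd | hd
  · rw [Ver21.polyGr_neg hd hp, smul_zero]; exact zero_mem _
  obtain ⟨i, rfl⟩ := Int.eq_ofNat_of_zero_le hd
  have hp' : p.IsHomogeneous i := fun e he => by
    have h := Ver21.mem_polyGr.1 hp he
    rw [Finsupp.weight_apply]
    simp [Finsupp.sum] at h ⊢
    exact_mod_cast h
  obtain ⟨M, hM⟩ := hl.exists_matrix g
  have he : hl.act g = aeval (fun j => g • (X j : MvPolynomial (Fin n) k)) :=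
    algHom_ext fun j => by rw [aeval_X]; rfl
  have h := hp'.aeval (fun j => g • (X j : MvPolynomial (Fin n) k)) (n := 1) (fun j => by
    rw [hM j]
    exact IsHomogeneous.sum _ _ _ fun l _ => by
      rw [MvPolynomial.smul_eq_C_mul]
      simpa using (isHomogeneous_C (Fin n) (M l j)).mul (isHomogeneous_X k l))
  rw [← he, one_mul] at h
  refine Ver21.mem_polyGr.2 fun e he' => ?_
  have := h he'
  rw [Finsupp.weight_apply] at this
  simp only [Finsupp.sum, Pi.one_apply, smul_eq_mul, mul_one] at this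
  exact_mod_cast this

omit [Finite G] in
lemma proj_mem_inv (d : ℤ) {p : MvPolynomial (Fin n) k} (hp : p ∈ hl.inv) :
    proj (Ver21.polyGr k n) d p ∈ hl.inv := by
  refine hl.mem_inv.2 fun g => ?_
  have key : ∀ q, g • proj (Ver21.polyGr k n) d q = proj (Ver21.polyGr k n) d (g • q) := fun q => by
    refine spans_induction (spans_of_decomposition (Ver21.polyGr k n)) q (by simp)
      (fun a b ha hb => by simp only [smul_add, map_add, ha, hb]) fun l a ha => ?_
    rcases eq_or_ne l d with rfl | hld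
    · rw [proj_of_mem _ ha, proj_of_mem _ (smul_mem_polyGr hl g ha)]
    · rw [proj_of_mem_ne _ ha hld, proj_of_mem_ne _ (smul_mem_polyGr hl g ha) hld, smul_zero]
  rw [key, hl.mem_inv.1 hp g]

/-- The induced grading on the invariants. -/
noncomputable def invGr (d : ℤ) : AddSubgroup hl.inv := (Ver21.polyGr k n d).comap hl.inv.val.toAddMonoidHom

instance : SetLike.GradedMonoid (invGr hl) where
  one_mem := SetLike.GradedOne.one_mem (A := Ver21.polyGr k n)
  mul_mem _ _ _ _ hx hy := SetLike.GradedMul.mul_mem (A := Ver21.polyGr k n) hx hy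

/-- The components. -/
noncomputable def invProj (d : ℤ) : hl.inv →+ hl.inv where
  toFun p := ⟨proj (Ver21.polyGr k n) d (p : MvPolynomial (Fin n) k), proj_mem_inv hl d p.2⟩
  map_zero' := Subtype.ext (by simp)
  map_add' a b := Subtype.ext (by simp)

omit [Finite G] in
lemma isInternal_invGr : IsInternal (invGr hl) := by
  classical
  refine isInternal_of_proj _ (invProj hl) (fun d x hx => Subtype.ext (proj_of_mem _ hx))
    (fun d e h x hx => Subtype.ext (proj_of_mem_ne _ hx (Ne.symm h))) fun x => ?_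
  have hx : x = ∑ d ∈ (DirectSum.decompose (Ver21.polyGr k n) (x : MvPolynomial (Fin n) k)).support, invProj hl d x :=
    Subtype.ext (by
      push_cast
      exact (DirectSum.sum_support_decompose (Ver21.polyGr k n) (x : MvPolynomial (Fin n) k)).symm)
  rw [hx]
  exact sum_mem fun d _ => AddSubgroup.mem_iSup_of_mem d (proj_mem (Ver21.polyGr k n) d _)

noncomputable instance : GradedRing (invGr hl) :=
  { (inferInstance : SetLike.GradedMonoid (invGr hl)), (isInternal_invGr hl).chooseDecomposition with }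

omit [Finite G] in
lemma invGr_neg : ∀ d : ℤ, d < 0 → ∀ r ∈ invGr hl d, r = 0 :=
  fun _ hd _ hr => Subtype.ext (Ver21.polyGr_neg hd hr)

omit [Finite G] in
lemma isField_deg0 : IsField (GrLC.deg0 (invGr hl)) := by
  refine ⟨⟨0, 1, fun h => zero_ne_one (α := MvPolynomial (Fin n) k)
    (congrArg (fun z : GrLC.deg0 (invGr hl) => ((z : hl.inv) : MvPolynomial (Fin n) k)) h)⟩, mul_comm, ?_⟩
  intro a ha
  obtain ⟨c, hc⟩ : ∃ c, ((a : hl.inv) : MvPolynomial (Fin n) k) = C c := ⟨_, Ver21.eq_C_of_mem a.2⟩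
  have hc0 : c ≠ 0 := fun h => ha (Subtype.ext (Subtype.ext (by rw [hc, h, map_zero]; rfl)))
  refine ⟨⟨algebraMap k hl.inv c⁻¹, Ver21.C_mem_polyGr c⁻¹⟩, Subtype.ext (Subtype.ext ?_)⟩
  show ((a : hl.inv) : MvPolynomial (Fin n) k) * C c⁻¹ = 1
  rw [hc, ← map_mul, mul_inv_cancel₀ hc0, map_one]

omit [Finite G] in
lemma span_pos_eq_vtx : Ideal.span (⋃ d ∈ Set.Ioi (0 : ℤ), (invGr hl d : Set hl.inv)) = hl.vtx := by
  classical
  refine le_antisymm (Ideal.span_le.2 ?_) fun f hf => ?_
  · intro a ha
    simp only [Set.mem_iUnion, SetLike.mem_coe, exists_prop] at ha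
    obtain ⟨d, hd, ha⟩ := ha
    show aeval (0 : Fin n → k) (a : MvPolynomial (Fin n) k) = 0
    rw [MvPolynomial.aeval_zero, constantCoeff_eq]
    by_contra hne
    have := Ver21.mem_polyGr.1 ha (e := 0) (fun h => hne (by
      have h' : coeff 0 (a : MvPolynomial (Fin n) k) = 0 := h
      simp [h']))
    simp at this
    exact absurd this.symm (ne_of_gt (show (0 : ℤ) < d from hd))
  · have hx : f = ∑ d ∈ (DirectSum.decompose (Ver21.polyGr k n) (f : MvPolynomial (Fin n) k)).support, invProj hl d f :=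
      Subtype.ext (by
        push_cast
        exact (DirectSum.sum_support_decompose (Ver21.polyGr k n) (f : MvPolynomial (Fin n) k)).symm)
    rw [hx]
    refine sum_mem fun d _ => ?_
    rcases lt_trichotomy d 0 with hd | rfl | hd
    · rw [invGr_neg hl d hd (invProj hl d f) (proj_mem (Ver21.polyGr k n) d _)]; exact zero_mem _
    · convert Ideal.zero_mem _ using 1
      refine Subtype.ext ?_
      show proj (Ver21.polyGr k n) ((0 : ℕ) : ℤ) (f : MvPolynomial (Fin n) k) = 0
      rw [Ver21.proj_polyGr, homogeneousComponent_zero]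
      have h0 : aeval (0 : Fin n → k) (f : MvPolynomial (Fin n) k) = 0 := hf
      rw [MvPolynomial.aeval_zero, constantCoeff_eq] at h0
      simp only [Algebra.algebraMap_self, RingHom.id_apply] at h0
      rw [h0, map_zero]
    · exact Ideal.subset_span (Set.mem_iUnion₂.2 ⟨d, hd, proj_mem (Ver21.polyGr k n) d _⟩)

include hl in
theorem isGorensteinRing_inv (hG : IsUnit ((Nat.card G : ℕ) : k))
    (hdet : ∀ g : G, ∃ M : Matrix (Fin n) (Fin n) k,
      (∀ i, g • (X i : MvPolynomial (Fin n) k) = ∑ j, M j i • X j) ∧ M.det = 1) :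
    LocCoh.IsGorensteinRing hl.inv := by
  have := hl.isNoetherianRing
  obtain ⟨m, hm, hmspan⟩ := exists_starMax (invGr_neg hl) (isField_deg0 hl)
  rw [span_pos_eq_vtx] at hmspan
  have : m.toIdeal.IsPrime := hmspan ▸ hl.vtx_isPrime
  have key : ∀ (I : Ideal hl.inv) [I.IsPrime], I = hl.vtx → LocCoh.IsGorensteinLocalRing (Localization.AtPrime I) := by
    rintro I _ rfl
    exact isGorensteinLocalRing_invLoc hl hG hdet
  have := key _ hmspan
  exact isGorensteinRing_of_starMax hm

end Groth.Agent.GorInv28
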