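import Mathlib.RingTheory.MvPolynomial.Basic
import Mathlib.RingTheory.Ideal.Height
import Mathlib.RingTheory.Ideal.KrullsHeightTheorem
import Mathlib.Algebra.MvPolynomial.CommRing

/-!
# The height of the ideal of the origin
-/

open MvPolynomial

universe u

namespace Groth.Agent.GorInv28

variable {k : Type u} [Field k] {n : ℕ}

/-- Setting the first `i` variables to zero. -/
noncomputable def killFirst (i : ℕ) : MvPolynomial (Fin n) k →ₐ[k] MvPolynomial (Fin n) k :=
  aeval fun j => if (j : ℕ) < i then 0 else X j

theorem natCast_le_height_origin :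
    (n : ℕ∞) ≤ (RingHom.ker (aeval (0 : Fin n → k) : MvPolynomial (Fin n) k →ₐ[k] k)).height := by
  have hp : ∀ i, (RingHom.ker (killFirst (k := k) (n := n) i)).IsPrime := fun i => RingHom.ker_isPrime _
  let s : LTSeries (PrimeSpectrum (MvPolynomial (Fin n) k)) :=
    { length := n
      toFun := fun i => ⟨RingHom.ker (killFirst (k := k) (n := n) (i : ℕ)), hp _⟩
      step := fun i => by
        show (⟨_, hp _⟩ : PrimeSpectrum (MvPolynomial (Fin n) k)) < ⟨_, hp _⟩
        have hc : (killFirst (k := k) (n := n) (i + 1 : ℕ)).comp (killFirst (i : ℕ)) = killFirst (i + 1 : ℕ) := by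
          refine algHom_ext fun j => ?_
          simp only [killFirst, AlgHom.comp_apply, aeval_X]
          split_ifs with h1 h2 <;> simp_all <;> omega
        refine lt_of_le_of_ne (fun f hf => ?_) fun he => ?_
        · show killFirst (k := k) (n := n) _ f = 0
          simp only [Fin.val_succ]
          rw [← hc, AlgHom.comp_apply, show killFirst (k := k) (n := n) (i : ℕ) f = 0 from hf, map_zero]
        · have h1 : killFirst (k := k) (n := n) ((i.succ : Fin (n + 1)) : ℕ) (X i) = 0 := by
            simp [killFirst]
          have h2 : (X i : MvPolynomial (Fin n) k) ∈ RingHom.ker (killFirst (k := k) (n := n) ((i.castSucc : Fin (n + 1)) : ℕ)) :=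
            (congrArg PrimeSpectrum.asIdeal he).ge (RingHom.mem_ker.2 h1)
          simp [RingHom.mem_ker, killFirst] at h2 }
  have hlast : s.last.asIdeal = RingHom.ker (aeval (0 : Fin n → k) : MvPolynomial (Fin n) k →ₐ[k] k) := by
    have he : killFirst (k := k) (n := n) n = (Algebra.ofId k _).comp (aeval (0 : Fin n → k)) :=
      algHom_ext fun j => by simp [killFirst]
    show RingHom.ker (killFirst (k := k) (n := n) ((Fin.last n : Fin (n + 1)) : ℕ)) = _
    rw [Fin.val_last, he]
    ext f
    simp only [RingHom.mem_ker, AlgHom.comp_apply]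
    exact map_eq_zero_iff _ (C_injective _ _)
  rw [← hlast, PrimeSpectrum.height_eq_orderHeight]
  exact Order.length_le_height_last (p := s)

end Groth.Agent.GorInv28
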