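import Groth.Agent.Lib.GorInv28.Height
import Mathlib.RingTheory.Invariant.Basic
import Mathlib.RingTheory.Localization.AtPrime.Basic
import Mathlib.RingTheory.Adjoin.Tower

/-!
# Invariants of a finite linear group: basic facts at the origin
-/

open MvPolynomial

universe u

namespace Groth.Agent.GorInv28

variable {k : Type u} [Field k] {n : ℕ} (G : Type u) [Group G]
  [MulSemiringAction G (MvPolynomial (Fin n) k)]

/-- A linear action by `k`-automorphisms. -/
structure IsLinearAction : Prop where
  smul_C : ∀ (g : G) (c : k), g • (C c : MvPolynomial (Fin n) k) = C c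
  exists_matrix : ∀ g : G, ∃ M : Matrix (Fin n) (Fin n) k,
    ∀ i, g • (X i : MvPolynomial (Fin n) k) = ∑ j, M j i • X j

variable {G} (hl : IsLinearAction (k := k) (n := n) G)

/-- The action as algebra homomorphisms. -/
noncomputable def IsLinearAction.act (g : G) : MvPolynomial (Fin n) k →ₐ[k] MvPolynomial (Fin n) k :=
  { MulSemiringAction.toRingHom G (MvPolynomial (Fin n) k) g with
    commutes' := fun c => hl.smul_C g c }

/-- The ring of invariants. -/
noncomputable def IsLinearAction.inv : Subalgebra k (MvPolynomial (Fin n) k) :=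
  ⨅ g : G, AlgHom.equalizer (hl.act g) (AlgHom.id k _)

lemma IsLinearAction.mem_inv {f : MvPolynomial (Fin n) k} : f ∈ hl.inv ↔ ∀ g : G, g • f = f := by
  simp [IsLinearAction.inv, Algebra.mem_iInf, AlgHom.mem_equalizer]
  rfl

/-- The ideal of the origin. -/
noncomputable abbrev origin (k : Type u) [Field k] (n : ℕ) : Ideal (MvPolynomial (Fin n) k) :=
  RingHom.ker (aeval (0 : Fin n → k) : MvPolynomial (Fin n) k →ₐ[k] k)

lemma isMaximal_origin : (origin k n).IsMaximal :=
  RingHom.ker_isMaximal_of_surjective _ fun (c : k) => ⟨(C c : MvPolynomial (Fin n) k), by simp⟩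

lemma origin_eq_span : origin k n = Ideal.span (Set.range X) := by
  refine le_antisymm (fun f hf => ?_) (Ideal.span_le.2 (by rintro _ ⟨i, rfl⟩; simp [RingHom.mem_ker]))
  have hle : ∀ f : MvPolynomial (Fin n) k, f - C ((aeval (0 : Fin n → k) : MvPolynomial (Fin n) k →ₐ[k] k) f) ∈ Ideal.span (Set.range X) := by
    intro f
    induction f using MvPolynomial.induction_on with
    | C a => simp
    | add p q hp hq => rw [map_add, map_add, add_sub_add_comm]; exact add_mem hp hq
    | mul_X p i _ => simpa using Ideal.mul_mem_left (Ideal.span (Set.range (X : Fin n → MvPolynomial (Fin n) k))) p (Ideal.subset_span ⟨i, rfl⟩)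
  simpa [show (aeval (0 : Fin n → k) : MvPolynomial (Fin n) k →ₐ[k] k) f = 0 from hf] using hle f

include hl in
lemma IsLinearAction.aeval_zero_smul (g : G) (f : MvPolynomial (Fin n) k) :
    aeval (0 : Fin n → k) (g • f) = aeval (0 : Fin n → k) f := by
  have : (aeval (0 : Fin n → k) : MvPolynomial (Fin n) k →ₐ[k] k).comp (hl.act g) = aeval (0 : Fin n → k) := by
    refine algHom_ext fun i => ?_
    obtain ⟨M, hM⟩ := hl.exists_matrix g
    show aeval (0 : Fin n → k) (g • (X i : MvPolynomial (Fin n) k)) = _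
    simp [hM]
  exact AlgHom.congr_fun this f

include hl in
lemma IsLinearAction.smul_mem_origin (g : G) {f : MvPolynomial (Fin n) k} (hf : f ∈ origin k n) :
    g • f ∈ origin k n := by
  rw [RingHom.mem_ker, hl.aeval_zero_smul]; exact hf

instance [hp : Fact (IsLinearAction (k := k) (n := n) G)] :
    SMulCommClass G hp.out.inv (MvPolynomial (Fin n) k) :=
  ⟨fun g a f => by
    show g • ((a : MvPolynomial (Fin n) k) * f) = (a : MvPolynomial (Fin n) k) * g • f
    rw [smul_mul', hp.out.mem_inv.1 a.2 g]⟩

instance [hp : Fact (IsLinearAction (k := k) (n := n) G)] :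
    Algebra.IsInvariant hp.out.inv (MvPolynomial (Fin n) k) G :=
  ⟨fun f hf => ⟨⟨f, hp.out.mem_inv.2 hf⟩, rfl⟩⟩

/-- The image of the origin. -/
noncomputable abbrev IsLinearAction.vtx : Ideal hl.inv := (origin k n).comap (algebraMap hl.inv (MvPolynomial (Fin n) k))

instance : (origin k n).IsMaximal := isMaximal_origin

lemma IsLinearAction.vtx_isPrime : hl.vtx.IsPrime := Ideal.IsPrime.comap _

variable [Finite G]

lemma IsLinearAction.eq_origin_of_comap_eq (q : Ideal (MvPolynomial (Fin n) k)) [q.IsPrime]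
    (h : q.comap (algebraMap hl.inv (MvPolynomial (Fin n) k)) = hl.vtx) : q = origin k n := by
  have : Fact (IsLinearAction (k := k) (n := n) G) := ⟨hl⟩
  obtain ⟨g, hg⟩ := Algebra.IsInvariant.exists_smul_of_under_eq hl.inv (MvPolynomial (Fin n) k) G (origin k n) q h.symm
  refine hg.trans (le_antisymm ?_ fun f hf => ?_)
  · intro f hf
    rw [Ideal.mem_pointwise_smul_iff_inv_smul_mem] at hf
    simpa using hl.smul_mem_origin g hf
  · rw [Ideal.mem_pointwise_smul_iff_inv_smul_mem]
    exact hl.smul_mem_origin g⁻¹ hf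

lemma IsLinearAction.moduleFinite : Module.Finite hl.inv (MvPolynomial (Fin n) k) := by
  have : Fact (IsLinearAction (k := k) (n := n) G) := ⟨hl⟩
  have : Algebra.IsIntegral hl.inv (MvPolynomial (Fin n) k) := Algebra.IsInvariant.isIntegral hl.inv _ G
  have : Algebra.FiniteType hl.inv (MvPolynomial (Fin n) k) :=
    Algebra.FiniteType.of_restrictScalars_finiteType k hl.inv _
  exact Algebra.IsIntegral.finite

lemma IsLinearAction.isNoetherianRing : IsNoetherianRing hl.inv := by
  have := hl.moduleFinite
  have : Algebra.FiniteType k hl.inv := ⟨fg_of_fg_of_fg k hl.inv (MvPolynomial (Fin n) k)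
    Algebra.FiniteType.out Module.Finite.fg_top Subtype.val_injective⟩
  exact Algebra.FiniteType.isNoetherianRing k hl.inv

variable (hG : IsUnit ((Nat.card G : ℕ) : k))

/-- The average. -/
noncomputable def avg [Fintype G] (f : MvPolynomial (Fin n) k) : MvPolynomial (Fin n) k :=
  ((Nat.card G : k))⁻¹ • ∑ g : G, g • f

include hl in
lemma IsLinearAction.avg_mem [Fintype G] (f : MvPolynomial (Fin n) k) : avg (G := G) f ∈ hl.inv := by
  refine hl.mem_inv.2 fun g => ?_
  rw [avg, Algebra.smul_def, smul_mul', MvPolynomial.algebraMap_eq, hl.smul_C, Finset.smul_sum]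
  congr 1
  exact Fintype.sum_equiv (Equiv.mulLeft g) _ _ fun h => (mul_smul g h f).symm

include hl in
lemma IsLinearAction.avg_mul [Fintype G] {c : MvPolynomial (Fin n) k} (hc : c ∈ hl.inv) (f : MvPolynomial (Fin n) k) :
    avg (G := G) (c * f) = c * avg (G := G) f := by
  rw [avg, avg, mul_smul_comm, Finset.mul_sum]
  simp only [smul_mul', hl.mem_inv.1 hc]

include hl hG in
lemma IsLinearAction.avg_of_mem [Fintype G] {c : MvPolynomial (Fin n) k} (hc : c ∈ hl.inv) :
    avg (G := G) c = c := by
  rw [avg]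
  simp only [hl.mem_inv.1 hc, Finset.sum_const, Finset.card_univ, ← Nat.card_eq_fintype_card]
  rw [← Nat.cast_smul_eq_nsmul k, smul_smul, inv_mul_cancel₀ hG.ne_zero, one_smul]

include hl in
lemma IsLinearAction.exists_mul_mem_inv {s : MvPolynomial (Fin n) k} (hs : s ∉ origin k n) :
    ∃ v : hl.inv, v ∉ hl.vtx ∧ s ∣ (v : MvPolynomial (Fin n) k) := by
  classical
  have := Fintype.ofFinite G
  refine ⟨⟨∏ g : G, g • s, hl.mem_inv.2 fun g => ?_⟩, fun h => hs ?_, ?_⟩
  · rw [Finset.smul_prod']
    exact Fintype.prod_equiv (Equiv.mulLeft g) _ _ fun h => (mul_smul g h s).symm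
  · rw [Ideal.mem_comap] at h
    obtain ⟨g, -, hg⟩ := (Ideal.IsPrime.prod_mem_iff (p := origin k n) (hp := inferInstance)).1 h
    simpa using hl.smul_mem_origin g⁻¹ hg
  · simpa using Finset.dvd_prod_of_mem (fun g : G => g • s) (Finset.mem_univ 1)

include hl hG in
lemma IsLinearAction.exists_mul_mem {I : Ideal hl.inv} {f : hl.inv} {w : MvPolynomial (Fin n) k}
    (hw : w ∉ origin k n)
    (h : w * (f : MvPolynomial (Fin n) k) ∈ I.map (algebraMap hl.inv (MvPolynomial (Fin n) k))) :
    ∃ v : hl.inv, v ∉ hl.vtx ∧ v * f ∈ I := by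
  have := Fintype.ofFinite G
  obtain ⟨v, hv, w', hw'⟩ := hl.exists_mul_mem_inv hw
  refine ⟨v, hv, ?_⟩
  have key : ∀ z ∈ I.map (algebraMap hl.inv (MvPolynomial (Fin n) k)), ∀ r : MvPolynomial (Fin n) k,
      (⟨avg (G := G) (r * z), hl.avg_mem _⟩ : hl.inv) ∈ I := by
    intro z hz
    induction hz using Submodule.span_induction with
    | mem z hz =>
      obtain ⟨c, hc, rfl⟩ := hz
      intro r
      convert I.mul_mem_right (⟨avg (G := G) r, hl.avg_mem r⟩ : hl.inv) hc using 1
      exact Subtype.ext (by rw [mul_comm r]; exact hl.avg_mul c.2 r)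
    | zero =>
      intro r
      convert I.zero_mem using 1
      exact Subtype.ext (by simp [avg])
    | add p q _ _ hp hq =>
      intro r
      convert I.add_mem (hp r) (hq r) using 1
      exact Subtype.ext (by simp [avg, mul_add, smul_add, Finset.sum_add_distrib])
    | smul c p _ hp => intro r; simpa [smul_eq_mul, mul_assoc] using hp (r * c)
  convert key _ h w' using 1
  refine Subtype.ext ?_
  have e : w' * (w * (f : MvPolynomial (Fin n) k)) = ((v * f : hl.inv) : MvPolynomial (Fin n) k) := by
    push_cast; rw [hw']; ring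
  show _ = avg (G := G) _
  rw [e, hl.avg_of_mem hG (v * f).2]

end Groth.Agent.GorInv28
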