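import Groth.Agent.S0343
import Groth.Agent.Lib.Goren15.Equiv
import Groth.Agent.Lib.Goren.Basic
import Mathlib.RingTheory.Regular.RegularSequence
import Mathlib.RingTheory.Ideal.Quotient.Operations

/-!
# Gorenstein from a quotient by a regular sequence
-/

universe u

open IsLocalRing RingTheory.Sequence

namespace Groth.Agent.GorInv28

theorem gorenstein_of_quotient_aux : ∀ (m : ℕ) (A : Type u) [CommRing A] [IsLocalRing A] [IsNoetherianRing A]
    (l : List A), l.length = m → IsWeaklyRegular A l → (∀ x ∈ l, x ∈ maximalIdeal A) →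
    LocCoh.IsGorensteinLocalRing (A ⧸ Ideal.ofList l) → LocCoh.IsGorensteinLocalRing A := by
  intro m
  induction m with
  | zero =>
    intro A _ _ _ l hl _ _ h
    obtain rfl := List.length_eq_zero_iff.1 hl
    exact Goren15.isGorensteinLocalRing_of_ringEquiv (h := h)
      ((Ideal.quotEquivOfEq (Ideal.ofList_nil (R := A))).trans (RingEquiv.quotientBot A))
  | succ m ih =>
    intro A _ _ _ l hl hw hm h
    obtain ⟨f, l, rfl⟩ : ∃ f l', l = f :: l' := ⟨_, _, (List.cons_head_tail (by intro hn; simp [hn] at hl)).symm⟩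
    have hf : f ∈ maximalIdeal A := hm f List.mem_cons_self
    have := GorenLib.isLocalRing_quotient hf
    rw [isWeaklyRegular_cons_iff'] at hw
    refine (Groth.Agent.S0343.result A f hf hw.1).2 (ih (A ⧸ Ideal.span {f})
      (l.map (Ideal.Quotient.mk _)) (by simpa using hl) ?_ ?_ ?_)
    · let e : QuotSMulTop f A ≃ₗ[A] A ⧸ Ideal.span ({f} : Set A) :=
        (QuotSMulTop.equivQuotTensor f A).trans (TensorProduct.rid A _)
      exact (LinearEquiv.isWeaklyRegular_congr (M₂ := A ⧸ Ideal.span ({f} : Set A))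
        (e.extendScalarsOfSurjective Ideal.Quotient.mk_surjective) _).1 hw.2
    · intro y hy
      obtain ⟨z, hz, rfl⟩ := List.mem_map.1 hy
      have : IsLocalHom (Ideal.Quotient.mk (Ideal.span {f})) :=
        IsLocalHom.of_surjective _ Ideal.Quotient.mk_surjective
      exact map_mem_nonunits_iff (Ideal.Quotient.mk (Ideal.span {f})) z |>.2 (hm z (List.mem_cons_of_mem f hz))
    · exact Goren15.isGorensteinLocalRing_of_ringEquiv (h := h)
        ((Ideal.quotEquivOfEq (Ideal.ofList_cons f l)).trans
          ((DoubleQuot.quotQuotEquivQuotSup _ _).symm.trans (Ideal.quotEquivOfEq (Ideal.map_ofList _ _))))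

theorem gorenstein_of_quotient (A : Type u) [CommRing A] [IsLocalRing A] [IsNoetherianRing A]
    (l : List A) (hw : IsWeaklyRegular A l) (hm : ∀ x ∈ l, x ∈ maximalIdeal A)
    (h : LocCoh.IsGorensteinLocalRing (A ⧸ Ideal.ofList l)) : LocCoh.IsGorensteinLocalRing A :=
  gorenstein_of_quotient_aux _ A l rfl hw hm h

end Groth.Agent.GorInv28
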