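import Groth.Agent.Lib.GorInv28.Socle
import Groth.Agent.Lib.GorInv28.RegSeq
import Groth.Agent.Lib.DiscNoether25.FieldGor
import Groth.Agent.Lib.VarDim.Alg
import Mathlib.RingTheory.KrullDimension.Polynomial

/-!
# Invariants of a finite subgroup of `SL` are Gorenstein at the origin
-/

open MvPolynomial RingTheory.Sequence IsLocalRing

set_option maxSynthPendingDepth 3

universe u

namespace Groth.Agent.GorInv28

/-- A nondegenerate functional from a socle element. -/
lemma exists_nondeg_of_socle {k S T : Type u} [Field k] [CommRing S] [Algebra k S] [CommRing T] [Algebra k T]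
    (π : S →ₐ[k] T) (hs : Function.Surjective π) {Δ : S} (hΔ : π Δ ≠ 0)
    (h : ∀ f, π f ≠ 0 → ∃ r, π (f * r) = π Δ) : ∃ φ : T →ₗ[k] k, DiscNoether25.IsNondeg φ := by
  obtain ⟨φ, hφ⟩ := Module.Projective.exists_dual_ne_zero k hΔ
  refine ⟨φ, fun b hb => ?_⟩
  by_contra hb0
  obtain ⟨f, rfl⟩ := hs b
  obtain ⟨r, hr⟩ := h f hb0
  exact hφ (hr ▸ map_mul π f r ▸ hb (π r))

variable {k : Type u} [Field k] {n : ℕ} {G : Type u} [Group G] [Finite G]
  [MulSemiringAction G (MvPolynomial (Fin n) k)] (hl : IsLinearAction (k := k) (n := n) G)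
  (hG : IsUnit ((Nat.card G : ℕ) : k))

instance : hl.vtx.IsPrime := hl.vtx_isPrime

lemma isMaximal_vtx : hl.vtx.IsMaximal :=
  have : hl.vtx = RingHom.ker ((aeval (0 : Fin n → k) : MvPolynomial (Fin n) k →ₐ[k] k).comp hl.inv.val) := rfl
  this ▸ RingHom.ker_isMaximal_of_surjective _ fun c => ⟨algebraMap k hl.inv c, by simp⟩

/-- The invariant parameters. -/
lemma exists_parameters :
    ∃ θ : Fin n → hl.inv, (∀ i, θ i ∈ hl.vtx) ∧
      ∀ q : Ideal (MvPolynomial (Fin n) k), q.IsPrime → (∀ i, (θ i : MvPolynomial (Fin n) k) ∈ q) →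
        q ≤ origin k n → q = origin k n := by
  classical
  have := hl.isNoetherianRing
  have := hl.moduleFinite
  obtain ⟨s, hs, hcard⟩ := Ideal.exists_finset_card_eq_height_of_isNoetherianRing hl.vtx
  have hsub : ∀ a ∈ s, a ∈ hl.vtx := fun a ha => hs.1.2 (Ideal.subset_span ha)
  have huniq : ∀ q : Ideal (MvPolynomial (Fin n) k), q.IsPrime → (∀ a ∈ s, (a : MvPolynomial (Fin n) k) ∈ q) →
      q ≤ origin k n → q = origin k n := by
    intro q hq hmem hle
    refine hl.eq_origin_of_comap_eq q (le_antisymm (Ideal.comap_mono hle) (hs.2 ⟨Ideal.IsPrime.comap _, ?_⟩ (Ideal.comap_mono hle)))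
    exact Ideal.span_le.2 fun a ha => hmem a ha
  have hle : s.card ≤ n := by
    have h1 : hl.vtx.height ≤ ringKrullDim hl.inv := Ideal.height_le_ringKrullDim_of_ne_top Ideal.IsPrime.ne_top'
    have h2 : ringKrullDim hl.inv = ringKrullDim (MvPolynomial (Fin n) k) :=
      (VarDim.ringKrullDim_eq_of_isIntegral (R := hl.inv) (S := MvPolynomial (Fin n) k) Subtype.val_injective).symm
    rw [h2, MvPolynomial.ringKrullDim_of_isNoetherianRing, ringKrullDim_eq_zero_of_field, zero_add, ← hcard,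
      Nat.card_eq_fintype_card, Fintype.card_fin] at h1
    exact_mod_cast h1
  obtain ⟨e⟩ : Nonempty ({a // a ∈ s} ↪ Fin n) := ⟨s.equivFin.toEmbedding.trans (Fin.castLEEmb hle)⟩
  refine ⟨fun i => if h : ∃ a, e a = i then (h.choose : {a // a ∈ s}).1 else 0, fun i => ?_, fun q hq hmem hleq => ?_⟩
  · dsimp only
    split_ifs with h
    · exact hsub _ h.choose.2
    · exact zero_mem _
  · refine huniq q hq (fun a ha => ?_) hleq
    have h := hmem (e ⟨a, ha⟩)
    have hex : ∃ b, e b = e ⟨a, ha⟩ := ⟨_, rfl⟩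
    simp only [dif_pos hex, e.injective hex.choose_spec] at h
    exact h

variable (θ : Fin n → hl.inv) (hθ : ∀ i, θ i ∈ hl.vtx)
  (hmin : ∀ q : Ideal (MvPolynomial (Fin n) k), q.IsPrime → (∀ i, (θ i : MvPolynomial (Fin n) k) ∈ q) →
    q ≤ origin k n → q = origin k n)

/-- The parameters in the polynomial ring. -/
noncomputable abbrev paramIdeal : Ideal (MvPolynomial (Fin n) k) :=
  Ideal.span (Set.range fun i => (θ i : MvPolynomial (Fin n) k))

lemma map_span_theta : (Ideal.span (Set.range θ)).map (algebraMap hl.inv (MvPolynomial (Fin n) k)) = paramIdeal hl θ := by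
  rw [Ideal.map_span, ← Set.range_comp]
  rfl

include hθ in
lemma exists_coeff : ∃ c : Matrix (Fin n) (Fin n) (MvPolynomial (Fin n) k),
    ∀ i, (θ i : MvPolynomial (Fin n) k) = ∑ j, c i j * X j := by
  have : ∀ i, ∃ c : Fin n → MvPolynomial (Fin n) k, ∑ j, c j * X j = (θ i : MvPolynomial (Fin n) k) := fun i => by
    have h : (θ i : MvPolynomial (Fin n) k) ∈ origin k n := hθ i
    rw [origin_eq_span] at h
    exact Ideal.mem_span_range_iff_exists_fun.1 h
  choose c hc using this
  exact ⟨c, fun i => (hc i).symm⟩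

omit [Finite G] in
lemma smul_mem_sat (g : G) {z : MvPolynomial (Fin n) k} (hz : z ∈ sat (paramIdeal hl θ)) :
    g • z ∈ sat (paramIdeal hl θ) := by
  obtain ⟨w, hw, hwz⟩ := mem_sat.1 hz
  refine mem_sat.2 ⟨g • w, fun h => hw (by simpa using hl.smul_mem_origin g⁻¹ h), ?_⟩
  rw [← smul_mul']
  generalize w * z = y at hwz ⊢
  induction hwz using Submodule.span_induction with
  | mem y hy => obtain ⟨i, rfl⟩ := hy; rw [hl.mem_inv.1 (θ i).2 g]; exact Ideal.subset_span ⟨i, rfl⟩
  | zero => simp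
  | add p q _ _ hp hq => rw [smul_add]; exact add_mem hp hq
  | smul r p _ hp => rw [smul_eq_mul, smul_mul']; exact Ideal.mul_mem_left _ _ hp

omit [Finite G] in
lemma smul_det_sub_mem (c : Matrix (Fin n) (Fin n) (MvPolynomial (Fin n) k))
    (hc : ∀ i, (θ i : MvPolynomial (Fin n) k) = ∑ j, c i j * X j) (g : G) (M : Matrix (Fin n) (Fin n) k)
    (hM : ∀ i, g • (X i : MvPolynomial (Fin n) k) = ∑ j, M j i • X j) (hdet : M.det = 1) :
    g • c.det - c.det ∈ sat (paramIdeal hl θ) := by
  let σ : MvPolynomial (Fin n) k →+* MvPolynomial (Fin n) k := MulSemiringAction.toRingHom G _ g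
  let c' : Matrix (Fin n) (Fin n) (MvPolynomial (Fin n) k) := c.map σ * (M.transpose.map C)
  have hc' : ∀ i, (θ i : MvPolynomial (Fin n) k) = ∑ l, c' i l * X l := by
    intro i
    conv_lhs => rw [← hl.mem_inv.1 (θ i).2 g, hc i, Finset.smul_sum]
    simp only [smul_mul', hM, Finset.mul_sum, c', Matrix.mul_apply, Finset.sum_mul]
    rw [Finset.sum_comm]
    refine Finset.sum_congr rfl fun l _ => Finset.sum_congr rfl fun j _ => ?_
    simp [σ, MvPolynomial.smul_eq_C_mul, mul_assoc]
  have hdet' : c'.det = g • c.det := by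
    rw [Matrix.det_mul, show c.map σ = σ.mapMatrix c from rfl, ← RingHom.map_det,
      show M.transpose.map C = (C : k →+* MvPolynomial (Fin n) k).mapMatrix M.transpose from rfl,
      ← RingHom.map_det, Matrix.det_transpose, hdet, map_one, mul_one]
    rfl
  let f := algebraMap (MvPolynomial (Fin n) k) (Loc k n)
  have h := det_sub_det_mem (fun i => f (θ i)) (fun j => f (X j)) (c'.map f) (c.map f)
    (fun i => by simp only [hc' i, map_sum, map_mul, Matrix.map_apply])
    (fun i => by simp only [hc i, map_sum, map_mul, Matrix.map_apply]) (ex_X_loc k n)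
  rw [show (c'.map f).det = f c'.det from (RingHom.map_det f c').symm,
    show (c.map f).det = f c.det from (RingHom.map_det f c).symm, ← map_sub, hdet'] at h
  show f (g • c.det - c.det) ∈ (paramIdeal hl θ).map f
  rwa [paramIdeal, Ideal.map_span, ← Set.range_comp]

include hG in
lemma avg_sub_mem_sat [Fintype G] {a : MvPolynomial (Fin n) k}
    (h : ∀ g : G, g • a - a ∈ sat (paramIdeal hl θ)) : avg (G := G) a - a ∈ sat (paramIdeal hl θ) := by
  have : avg (G := G) a - a = ((Nat.card G : k))⁻¹ • ∑ g : G, (g • a - a) := by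
    rw [avg, Finset.sum_sub_distrib, smul_sub, Finset.sum_const, Finset.card_univ, ← Nat.card_eq_fintype_card,
      ← Nat.cast_smul_eq_nsmul k, smul_smul, inv_mul_cancel₀ hG.ne_zero, one_smul]
  rw [this, MvPolynomial.smul_eq_C_mul]
  exact Ideal.mul_mem_left _ _ (sum_mem fun g _ => h g)

omit [Finite G] in
lemma avg_mem_sat [Fintype G] {a : MvPolynomial (Fin n) k} (h : a ∈ sat (paramIdeal hl θ)) :
    avg (G := G) a ∈ sat (paramIdeal hl θ) := by
  rw [avg, MvPolynomial.smul_eq_C_mul]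
  exact Ideal.mul_mem_left _ _ (sum_mem fun g _ => smul_mem_sat hl θ g h)

/-- The local ring of the invariants. -/
abbrev InvLoc : Type u := Localization.AtPrime hl.vtx

include hG in
lemma algebraMap_mem_map_iff {I : Ideal hl.inv} {f : hl.inv} :
    algebraMap hl.inv (InvLoc hl) f ∈ I.map (algebraMap hl.inv (InvLoc hl)) ↔
      (f : MvPolynomial (Fin n) k) ∈ sat (I.map (algebraMap hl.inv (MvPolynomial (Fin n) k))) := by
  rw [IsLocalization.algebraMap_mem_map_algebraMap_iff hl.vtx.primeCompl, mem_sat]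
  constructor
  · rintro ⟨v, hv, h⟩
    exact ⟨(v : MvPolynomial (Fin n) k), hv, Ideal.mem_map_of_mem (algebraMap hl.inv (MvPolynomial (Fin n) k)) h⟩
  · rintro ⟨w, hw, h⟩
    obtain ⟨v, hv, hvf⟩ := hl.exists_mul_mem hG hw h
    exact ⟨v, hv, hvf⟩

variable (c : Matrix (Fin n) (Fin n) (MvPolynomial (Fin n) k))
  (hc : ∀ i, (θ i : MvPolynomial (Fin n) k) = ∑ j, c i j * X j)

include hG hmin hc in
lemma isWeaklyRegular_invLoc :
    IsWeaklyRegular (InvLoc hl) (List.ofFn fun i => algebraMap hl.inv (InvLoc hl) (θ i)) := by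
  classical
  have hR := isWeaklyRegular_theta (fun i => (θ i : MvPolynomial (Fin n) k)) c hc hmin
  rw [isWeaklyRegular_iff_Fin] at hR ⊢
  intro i
  have hi : (i : ℕ) < n := i.2.trans_eq (List.length_ofFn ..)
  let I : Ideal hl.inv := Ideal.ofList ((List.ofFn θ).take i)
  have hS : Ideal.ofList ((List.ofFn fun j => algebraMap hl.inv (InvLoc hl) (θ j)).take i) = I.map (algebraMap _ _) := by
    rw [Ideal.map_ofList, List.map_take, List.map_ofFn]
    rfl
  have hR' : Ideal.ofList ((List.ofFn fun j => algebraMap _ (Loc k n) (θ j : MvPolynomial (Fin n) k)).take i) =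
      (I.map (algebraMap hl.inv (MvPolynomial (Fin n) k))).map (algebraMap _ (Loc k n)) := by
    rw [Ideal.map_ofList, Ideal.map_ofList, List.map_take, List.map_take, List.map_ofFn, List.map_ofFn]
    rfl
  have hRi := hR ⟨i, by simpa using hi⟩
  rw [isSMulRegular_quotient_iff_mem_of_smul_mem] at hRi ⊢
  intro y hy
  simp only [Fin.getElem_fin, List.getElem_ofFn, smul_eq_mul, Ideal.mul_top] at hRi hy ⊢
  rw [hS] at hy ⊢
  obtain ⟨⟨f, v⟩, hfv⟩ := IsLocalization.surj hl.vtx.primeCompl y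
  have hv := IsLocalization.map_units (InvLoc hl) v
  rw [← Ideal.mul_unit_mem_iff_mem _ hv, hfv]
  rw [← Ideal.mul_unit_mem_iff_mem _ hv, mul_assoc, hfv, ← map_mul] at hy
  rw [algebraMap_mem_map_iff hl hG] at hy ⊢
  have := hRi (algebraMap _ _ (f : MvPolynomial (Fin n) k)) (by
    rw [hR', ← map_mul]; exact hy)
  rw [hR'] at this
  exact this

/-- The parameters in the local ring of invariants. -/
noncomputable abbrev paramLoc : Ideal (InvLoc hl) :=
  (Ideal.span (Set.range θ)).map (algebraMap hl.inv (InvLoc hl))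

/-- Reduction modulo the parameters. -/
noncomputable def redHom : hl.inv →ₐ[k] InvLoc hl ⧸ paramLoc hl θ :=
  (Ideal.Quotient.mkₐ k (paramLoc hl θ)).comp (IsScalarTower.toAlgHom k hl.inv (InvLoc hl))

include hG in
lemma redHom_eq_zero {f : hl.inv} :
    redHom hl θ f = 0 ↔ (f : MvPolynomial (Fin n) k) ∈ sat (paramIdeal hl θ) :=
  Ideal.Quotient.eq_zero_iff_mem.trans ((algebraMap_mem_map_iff hl hG).trans (by rw [map_span_theta]))

include hG hmin in
lemma redHom_surjective : Function.Surjective (redHom hl θ) := by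
  obtain ⟨N, hN⟩ := exists_origin_pow_le (fun i => (θ i : MvPolynomial (Fin n) k)) hmin
  intro t
  obtain ⟨y, rfl⟩ := Ideal.Quotient.mk_surjective t
  obtain ⟨⟨f, ⟨v, hv⟩⟩, hfv⟩ := IsLocalization.surj hl.vtx.primeCompl y
  have htop : Ideal.span {v} ⊔ hl.vtx ^ N = ⊤ := Ideal.sup_pow_eq_top (by
    refine (isMaximal_vtx hl).1.2 _ (lt_of_le_of_ne le_sup_right fun he => hv ?_)
    exact he.ge (Ideal.mem_sup_left (Ideal.mem_span_singleton_self v)))
  obtain ⟨w', hw', z, hz, hwz⟩ := Submodule.mem_sup.1 ((Ideal.eq_top_iff_one _).1 htop)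
  obtain ⟨w, rfl⟩ := Ideal.mem_span_singleton'.1 hw'
  have hz0 : redHom hl θ z = 0 := (redHom_eq_zero hl hG θ).2 (hN (by
    have h2 := Ideal.mem_map_of_mem (algebraMap hl.inv (MvPolynomial (Fin n) k)) hz
    rw [Ideal.map_pow] at h2
    exact Ideal.pow_right_mono Ideal.map_comap_le N h2))
  have hf : redHom hl θ f = Ideal.Quotient.mk (paramLoc hl θ) y * redHom hl θ v :=
    (congrArg (Ideal.Quotient.mk (paramLoc hl θ)) hfv).symm.trans (map_mul _ _ _)
  have hvw : redHom hl θ v * redHom hl θ w = 1 := by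
    rw [← map_mul, mul_comm v w, show w * v = 1 - z from eq_sub_of_add_eq hwz, map_sub, map_one, hz0, sub_zero]
  exact ⟨f * w, by rw [map_mul, hf, mul_assoc, hvw, mul_one]⟩

include hmin in
lemma finite_quotient_sat : Module.Finite k (MvPolynomial (Fin n) k ⧸ sat (paramIdeal hl θ)) := by
  obtain ⟨N, hN⟩ := exists_origin_pow_le (fun i => (θ i : MvPolynomial (Fin n) k)) hmin
  let q := Ideal.Quotient.mkₐ k (sat (paramIdeal hl θ))
  have hX : ∀ i, IsNilpotent (q (X i)) := fun i => ⟨N, by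
    rw [← map_pow]
    exact Ideal.Quotient.eq_zero_iff_mem.2 (hN (Ideal.pow_mem_pow (by simp [RingHom.mem_ker]) _))⟩
  refine ⟨?_⟩
  have := fg_adjoin_of_finite (R := k) (Set.finite_range fun i => q (X i))
    (by rintro _ ⟨i, rfl⟩; obtain ⟨m, hm⟩ := hX i; exact IsIntegral.of_pow (n := m + 1) (by omega) (by rw [pow_succ, hm, zero_mul]; exact isIntegral_zero))
  rwa [Set.range_comp' q X, Algebra.adjoin_image, MvPolynomial.adjoin_range_X, Algebra.map_top,
    (AlgHom.range_eq_top q).2 Ideal.Quotient.mk_surjective, Algebra.top_toSubmodule] at this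

include hG hmin in
lemma finite_quotient_paramLoc : Module.Finite k (InvLoc hl ⧸ paramLoc hl θ) := by
  have := finite_quotient_sat hl θ hmin
  let ψ : hl.inv →ₐ[k] MvPolynomial (Fin n) k ⧸ sat (paramIdeal hl θ) := (Ideal.Quotient.mkₐ k _).comp hl.inv.val
  have hker : RingHom.ker ψ = RingHom.ker (redHom hl θ) := by
    ext f; rw [RingHom.mem_ker, RingHom.mem_ker, redHom_eq_zero hl hG]; exact Ideal.Quotient.eq_zero_iff_mem
  have h1 : Module.Finite k (hl.inv ⧸ RingHom.ker ψ) :=
    Module.Finite.of_injective (Ideal.kerLiftAlg ψ).toLinearMap (Ideal.kerLiftAlg_injective ψ)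
  rw [hker] at h1
  exact Module.Finite.equiv (Ideal.quotientKerAlgEquivOfSurjective (redHom_surjective hl hG θ hmin)).toLinearEquiv

include hG hmin hc in
lemma exists_nondeg
    (hdet : ∀ g : G, ∃ M : Matrix (Fin n) (Fin n) k,
      (∀ i, g • (X i : MvPolynomial (Fin n) k) = ∑ j, M j i • X j) ∧ M.det = 1) :
    ∃ φ : (InvLoc hl ⧸ paramLoc hl θ) →ₗ[k] k, DiscNoether25.IsNondeg φ := by
  classical
  have := Fintype.ofFinite G
  let Δ : hl.inv := ⟨avg (G := G) c.det, hl.avg_mem _⟩
  have hΔ : (Δ : MvPolynomial (Fin n) k) - c.det ∈ sat (paramIdeal hl θ) := avg_sub_mem_sat hl hG θ fun g => by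
    obtain ⟨M, hM, hdetM⟩ := hdet g
    exact smul_det_sub_mem hl θ c hc g M hM hdetM
  have hσ : redHom hl θ Δ ≠ 0 := fun h => det_notMem_sat (fun i => (θ i : MvPolynomial (Fin n) k)) c hc hmin (by
    have := sub_mem ((redHom_eq_zero hl hG θ).1 h) hΔ
    rwa [sub_sub_cancel] at this)
  refine exists_nondeg_of_socle (redHom hl θ) (redHom_surjective hl hG θ hmin) hσ fun f hb0 => ?_
  obtain ⟨r, hr⟩ := exists_mul_sub_det_mem (fun i => (θ i : MvPolynomial (Fin n) k)) c hc hmin
    (fun h => hb0 ((redHom_eq_zero hl hG θ).2 h))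
  let r' : hl.inv := ⟨avg (G := G) r, hl.avg_mem r⟩
  have hfr : redHom hl θ (f * r' - Δ) = 0 := (redHom_eq_zero hl hG θ).2 (by
    have h2 := avg_mem_sat hl θ hr
    have e : avg (G := G) (r * (f : MvPolynomial (Fin n) k) - c.det) =
        (f : MvPolynomial (Fin n) k) * avg (G := G) r - avg (G := G) c.det := by
      rw [← hl.avg_mul f.2, mul_comm r]
      simp only [avg, smul_sub, Finset.sum_sub_distrib]
    rw [e] at h2
    exact h2)
  exact ⟨r', sub_eq_zero.1 ((map_sub _ _ _).symm.trans hfr)⟩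

include hG hmin hc in
theorem isGorensteinLocalRing_invLoc_aux
    (hdet : ∀ g : G, ∃ M : Matrix (Fin n) (Fin n) k,
      (∀ i, g • (X i : MvPolynomial (Fin n) k) = ∑ j, M j i • X j) ∧ M.det = 1) :
    LocCoh.IsGorensteinLocalRing (InvLoc hl) := by
  classical
  have := hl.isNoetherianRing
  have : IsNoetherianRing (InvLoc hl) := IsLocalization.isNoetherianRing hl.vtx.primeCompl _ inferInstance
  have hofList : Ideal.ofList (List.ofFn fun i => algebraMap hl.inv (InvLoc hl) (θ i)) = paramLoc hl θ := by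
    simp only [paramLoc, Ideal.map_span, ← Set.range_comp]
    exact congrArg Ideal.span (by ext y; simp [List.mem_ofFn])
  have hθmax : ∀ y ∈ (List.ofFn fun i => algebraMap hl.inv (InvLoc hl) (θ i)), y ∈ maximalIdeal (InvLoc hl) := by
    intro y hy
    obtain ⟨i, rfl⟩ := (List.mem_ofFn' _ _).1 hy
    rw [← Localization.AtPrime.map_eq_maximalIdeal]
    refine Ideal.mem_map_of_mem _ ?_
    show (θ i : MvPolynomial (Fin n) k) ∈ origin k n
    rw [hc]
    exact sum_mem fun j _ => Ideal.mul_mem_left _ _ (by simp [RingHom.mem_ker])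
  refine gorenstein_of_quotient _ _ (isWeaklyRegular_invLoc hl hG θ hmin c hc) hθmax ?_
  have hne : paramLoc hl θ ≠ ⊤ := ne_top_of_le_ne_top (maximalIdeal.isMaximal _).ne_top
    (hofList.ge.trans (Ideal.span_le.2 hθmax))
  rw [hofList]
  have : Nontrivial (InvLoc hl ⧸ paramLoc hl θ) := Ideal.Quotient.nontrivial_iff.2 hne
  have : IsLocalRing (InvLoc hl ⧸ paramLoc hl θ) :=
    IsLocalRing.of_surjective' (Ideal.Quotient.mk _) Ideal.Quotient.mk_surjective
  have := finite_quotient_paramLoc hl hG θ hmin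
  obtain ⟨φ, hφ⟩ := exists_nondeg hl hG θ hmin c hc hdet
  exact DiscNoether25.gorenstein_of_nondeg (k := k) _ φ hφ

include hG in
theorem isGorensteinLocalRing_invLoc
    (hdet : ∀ g : G, ∃ M : Matrix (Fin n) (Fin n) k,
      (∀ i, g • (X i : MvPolynomial (Fin n) k) = ∑ j, M j i • X j) ∧ M.det = 1) :
    LocCoh.IsGorensteinLocalRing (InvLoc hl) := by
  obtain ⟨θ, hθ, hmin⟩ := exists_parameters hl
  obtain ⟨c, hc⟩ := exists_coeff hl θ hθ
  exact isGorensteinLocalRing_invLoc_aux hl hG θ hmin c hc hdet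

end Groth.Agent.GorInv28
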