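import Groth.Agent.Lib.GorInv28.Det
import Groth.Agent.Lib.GorInv28.Inv
import Groth.Agent.Lib.EmbDef.Regular
import Groth.Agent.Lib.RegLoc.Basic
import Groth.Agent.Lib.SmoothReg17.Basic
import Groth.Agent.Lib.Depth.CM

/-!
# The socle of the polynomial ring modulo invariant parameters
-/

open MvPolynomial RingTheory.Sequence IsLocalRing

universe u

namespace Groth.Agent.GorInv28

variable (k : Type u) [Field k] (n : ℕ)

/-- The local ring of affine space at the origin. -/
abbrev Loc : Type u := Localization.AtPrime (origin k n)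

instance : IsRegularLocalRing (Loc k n) :=
  SmoothReg17.isRegularLocalRing_of_smooth (algebraMap k (MvPolynomial (Fin n) k))
    (RingHom.smooth_algebraMap.2 ⟨inferInstance, inferInstance⟩) (origin k n)

lemma span_range_X_loc : Ideal.span (Set.range fun i => algebraMap (MvPolynomial (Fin n) k) (Loc k n) (X i)) =
    maximalIdeal (Loc k n) := by
  rw [← Localization.AtPrime.map_eq_maximalIdeal]
  refine Eq.trans ?_ (congrArg (Ideal.map (algebraMap (MvPolynomial (Fin n) k) (Loc k n))) origin_eq_span).symm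
  rw [Ideal.map_span, ← Set.range_comp]
  rfl

lemma ringKrullDim_loc : ringKrullDim (Loc k n) = n ∧ (maximalIdeal (Loc k n)).spanFinrank = n := by
  have h1 : (maximalIdeal (Loc k n)).spanFinrank ≤ n := by
    rw [← span_range_X_loc]
    refine (Submodule.spanFinrank_span_le_ncard_of_finite (Set.finite_range _)).trans ?_
    simpa using Finite.card_range_le fun i => algebraMap (MvPolynomial (Fin n) k) (Loc k n) (X i)
  have h2 := IsRegularLocalRing.spanFinrank_maximalIdeal (R := Loc k n)
  have h3 : (n : WithBot ℕ∞) ≤ ringKrullDim (Loc k n) := by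
    rw [IsLocalization.AtPrime.ringKrullDim_eq_height (origin k n) (Loc k n)]
    exact_mod_cast natCast_le_height_origin
  rw [← h2] at h3 ⊢
  have h4 : n ≤ (maximalIdeal (Loc k n)).spanFinrank := by exact_mod_cast h3
  exact ⟨by rw [le_antisymm h1 h4], le_antisymm h1 h4⟩

lemma ex_X_loc : CI2.Ex (Loc k n) (Loc k n) (List.ofFn fun i => algebraMap (MvPolynomial (Fin n) k) (Loc k n) (X i)) :=
  CI2.ex_of_isWeaklyRegular _ _
    (RegLoc.isRegular_of_span_range n (Loc k n) _ (span_range_X_loc k n) (ringKrullDim_loc k n).2).toIsWeaklyRegular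

variable {k n}

/-- The trace of an ideal of the local ring on the polynomial ring. -/
noncomputable def sat (J : Ideal (MvPolynomial (Fin n) k)) : Ideal (MvPolynomial (Fin n) k) :=
  (J.map (algebraMap _ (Loc k n))).comap (algebraMap _ (Loc k n))

lemma mem_sat {J : Ideal (MvPolynomial (Fin n) k)} {a : MvPolynomial (Fin n) k} :
    a ∈ sat J ↔ ∃ w, w ∉ origin k n ∧ w * a ∈ J := by
  rw [sat, Ideal.mem_comap, IsLocalization.algebraMap_mem_map_algebraMap_iff (origin k n).primeCompl]
  rfl

lemma le_sat (J : Ideal (MvPolynomial (Fin n) k)) : J ≤ sat J := Ideal.le_comap_map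

lemma C_mem_origin_iff {c : k} : (C c : MvPolynomial (Fin n) k) ∈ origin k n ↔ c = 0 := by
  simp [RingHom.mem_ker]

lemma sub_C_mem_origin (a : MvPolynomial (Fin n) k) :
    a - C ((aeval (0 : Fin n → k) : MvPolynomial (Fin n) k →ₐ[k] k) a) ∈ origin k n := by
  simp [RingHom.mem_ker]

lemma mem_of_C_mul_mem {K : Ideal (MvPolynomial (Fin n) k)} {c : k} (hc : c ≠ 0) {a : MvPolynomial (Fin n) k}
    (h : C c * a ∈ K) : a ∈ K := by
  have := K.mul_mem_left (C c⁻¹) h
  rwa [← mul_assoc, ← map_mul, inv_mul_cancel₀ hc, map_one, one_mul] at this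

variable (θ : Fin n → MvPolynomial (Fin n) k) (c : Matrix (Fin n) (Fin n) (MvPolynomial (Fin n) k))
  (hc : ∀ i, θ i = ∑ j, c i j * X j) (hmin : ∀ q : Ideal (MvPolynomial (Fin n) k), q.IsPrime →
    (∀ i, θ i ∈ q) → q ≤ origin k n → q = origin k n)

include hmin in
lemma exists_pow_le_map : ∃ N : ℕ,
    maximalIdeal (Loc k n) ^ N ≤ (Ideal.span (Set.range θ)).map (algebraMap _ (Loc k n)) := by
  refine Ideal.exists_pow_le_of_le_radical_of_fg ?_ (IsNoetherian.noetherian _)
  rw [Ideal.radical_eq_sInf]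
  refine le_sInf fun q hq => ?_
  have := hq.2
  have hq' : q.comap (algebraMap _ (Loc k n)) = origin k n := hmin _ inferInstance
    (fun i => hq.1 (Ideal.mem_map_of_mem _ (Ideal.subset_span ⟨i, rfl⟩))) (by
      refine (Ideal.comap_mono (IsLocalRing.le_maximalIdeal hq.2.ne_top)).trans ?_
      exact (IsLocalization.AtPrime.comap_maximalIdeal (Loc k n) (origin k n)).le)
  rw [← Localization.AtPrime.map_eq_maximalIdeal]
  exact Ideal.map_le_iff_le_comap.2 hq'.ge

include hc hmin in
lemma isWeaklyRegular_theta :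
    IsWeaklyRegular (Loc k n) (List.ofFn fun i => algebraMap _ (Loc k n) (θ i)) := by
  have hmem : ∀ i, algebraMap _ (Loc k n) (θ i) ∈ maximalIdeal (Loc k n) := fun i => by
    rw [← Localization.AtPrime.map_eq_maximalIdeal, hc]
    exact Ideal.mem_map_of_mem _ (sum_mem fun j _ => Ideal.mul_mem_left _ _ (by simp [RingHom.mem_ker]))
  have : LocCoh.IsCohenMacaulayLocalRing (Loc k n) := DepthLib.isCohenMacaulayLocalRing_of_isRegularLocalRing
  refine EmbDef.isWeaklyRegular_of_dim _ (fun y hy => ?_) ?_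
  · obtain ⟨i, rfl⟩ := (List.mem_ofFn' _ _).1 hy
    exact hmem i
  obtain ⟨N, hN⟩ := exists_pow_le_map θ hmin
  have hofList : Ideal.ofList (List.ofFn fun i => algebraMap _ (Loc k n) (θ i)) =
      (Ideal.span (Set.range θ)).map (algebraMap _ (Loc k n)) := by
    rw [Ideal.map_span, ← Set.range_comp]
    exact congrArg Ideal.span (by ext y; simp [List.mem_ofFn])
  have : Ring.KrullDimLE 0 (Loc k n ⧸ Ideal.ofList (List.ofFn fun i => algebraMap _ (Loc k n) (θ i))) := by
    refine Ring.krullDimLE_zero_iff.2 fun q hq => ?_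
    have hq1 : maximalIdeal (Loc k n) ≤ q.comap (Ideal.Quotient.mk _) := by
      refine (Ideal.IsPrime.pow_le_iff (n := N + 1) (by omega)).1 (((Ideal.pow_le_pow_right (Nat.le_succ N)).trans hN).trans ?_)
      rw [← hofList]
      intro z hz
      rw [Ideal.mem_comap, Ideal.Quotient.eq_zero_iff_mem.2 hz]
      exact zero_mem _
    have hqm : (q.comap (Ideal.Quotient.mk _)).IsMaximal :=
      (maximalIdeal.isMaximal _).eq_of_le (Ideal.IsPrime.ne_top inferInstance) hq1 ▸ maximalIdeal.isMaximal _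
    rw [← Ideal.map_comap_of_surjective _ Ideal.Quotient.mk_surjective q]
    exact (Ideal.map_eq_top_or_isMaximal_of_surjective _ Ideal.Quotient.mk_surjective hqm).resolve_left
      (by rw [Ideal.map_comap_of_surjective _ Ideal.Quotient.mk_surjective q]; exact hq.ne_top)
  have hne : Nontrivial (Loc k n ⧸ Ideal.ofList (List.ofFn fun i => algebraMap _ (Loc k n) (θ i))) :=
    Ideal.Quotient.nontrivial_iff.2 (ne_top_of_le_ne_top (maximalIdeal.isMaximal _).ne_top (Ideal.span_le.2 fun y hy => by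
      obtain ⟨i, rfl⟩ := (List.mem_ofFn' _ _).1 hy
      exact hmem i))
  rw [ringKrullDimZero_iff_ringKrullDim_eq_zero.1 this, List.length_ofFn, (ringKrullDim_loc k n).1, zero_add]

include hc in
lemma det_mul_mem_span (j : Fin n) : c.det * X j ∈ Ideal.span (Set.range θ) :=
  KoszulColon25.det_mul_mem θ X c hc j

include hc in
lemma det_mul_mem_sat {t : MvPolynomial (Fin n) k} (ht : t ∈ origin k n) :
    t * c.det ∈ sat (Ideal.span (Set.range θ)) := by
  rw [origin_eq_span] at ht
  induction ht using Submodule.span_induction with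
  | mem y hy => obtain ⟨j, rfl⟩ := hy; exact le_sat _ (by rw [mul_comm]; exact det_mul_mem_span θ c hc j)
  | zero => simp
  | add p q _ _ hp hq => rw [add_mul]; exact add_mem hp hq
  | smul r p _ hp => rw [smul_eq_mul, mul_assoc]; exact Ideal.mul_mem_left _ _ hp

include hc hmin in
/-- The colon of the parameters by the origin. -/
lemma exists_sub_mem_sat {a : MvPolynomial (Fin n) k} (ha : ∀ j, X j * a ∈ sat (Ideal.span (Set.range θ))) :
    ∃ t, a - t * c.det ∈ sat (Ideal.span (Set.range θ)) := by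
  let f := algebraMap (MvPolynomial (Fin n) k) (Loc k n)
  have hspan : Ideal.span (Set.range (f ∘ θ)) = (Ideal.span (Set.range θ)).map f := by
    rw [Ideal.map_span, ← Set.range_comp]
  have h := KoszulColon25.mem_sup_span_det (f ∘ θ) (fun j => f (X j)) (c.map f)
    (fun i => by simp only [Function.comp_apply, hc, map_sum, map_mul, Matrix.map_apply])
    (CI2.ex_of_isWeaklyRegular _ _ (isWeaklyRegular_theta θ c hc hmin)) (a := f a) (fun j => by
      rw [hspan, ← map_mul, mul_comm]; exact ha j)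
  rw [hspan, show (c.map f).det = f c.det from (RingHom.map_det f c).symm, ← Set.image_singleton, ← Ideal.map_span,
    ← Ideal.map_sup] at h
  obtain ⟨w, hw, hwa⟩ := mem_sat.1 (show a ∈ sat (Ideal.span (Set.range θ) ⊔ Ideal.span {c.det}) from h)
  obtain ⟨e, he, t', ht', het⟩ := Submodule.mem_sup.1 hwa
  obtain ⟨t, rfl⟩ := Ideal.mem_span_singleton'.1 ht'
  obtain ⟨c₀, hc₀⟩ : ∃ c₀, (aeval (0 : Fin n → k) : MvPolynomial (Fin n) k →ₐ[k] k) w = c₀ := ⟨_, rfl⟩
  have hc0 : c₀ ≠ 0 := fun h0 => hw (RingHom.mem_ker.2 (hc₀.trans h0))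
  have hwK : (w - C c₀) * a ∈ sat (Ideal.span (Set.range θ)) := by
    have hwm : w - C c₀ ∈ origin k n := hc₀ ▸ sub_C_mem_origin w
    rw [origin_eq_span] at hwm
    generalize w - C c₀ = z at hwm ⊢
    induction hwm using Submodule.span_induction with
    | mem y hy => obtain ⟨j, rfl⟩ := hy; exact ha j
    | zero => simp
    | add p q _ _ hp hq => rw [add_mul]; exact add_mem hp hq
    | smul r p _ hp => rw [smul_eq_mul, mul_assoc]; exact Ideal.mul_mem_left _ _ hp
  refine ⟨C c₀⁻¹ * t, mem_of_C_mul_mem hc0 ?_⟩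
  rw [show C c₀ * (a - C c₀⁻¹ * t * c.det) = e - (w - C c₀) * a + (1 - C c₀ * C c₀⁻¹) * (t * c.det) by
    linear_combination -het, ← map_mul, mul_inv_cancel₀ hc0, map_one, sub_self, zero_mul, add_zero]
  exact sub_mem (le_sat _ he) hwK

include hmin in
lemma exists_origin_pow_le : ∃ N : ℕ, origin k n ^ N ≤ sat (Ideal.span (Set.range θ)) := by
  obtain ⟨N, hN⟩ := exists_pow_le_map θ hmin
  refine ⟨N, Ideal.map_le_iff_le_comap.1 ?_⟩
  rw [Ideal.map_pow, Localization.AtPrime.map_eq_maximalIdeal]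
  exact hN

lemma mul_mem_sat_of_X_mul {j : ℕ} {a : MvPolynomial (Fin n) k} {K : Ideal (MvPolynomial (Fin n) k)}
    (h : ∀ z ∈ origin k n ^ (j + 1), z * a ∈ K) (i : Fin n) : ∀ z ∈ origin k n ^ j, z * (X i * a) ∈ K := by
  intro z hz
  rw [← mul_assoc]
  exact h _ (by rw [pow_succ]; exact Ideal.mul_mem_mul hz (by simp [RingHom.mem_ker]))

include hc hmin in
/-- Every element outside the parameters divides the determinant modulo them. -/
lemma exists_mul_sub_det_mem {a : MvPolynomial (Fin n) k} (ha : a ∉ sat (Ideal.span (Set.range θ))) :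
    ∃ r, r * a - c.det ∈ sat (Ideal.span (Set.range θ)) := by
  obtain ⟨N, hN⟩ := exists_origin_pow_le θ hmin
  suffices ∀ j a, (∀ z ∈ origin k n ^ j, z * a ∈ sat (Ideal.span (Set.range θ))) →
      a ∉ sat (Ideal.span (Set.range θ)) → ∃ r, r * a - c.det ∈ sat (Ideal.span (Set.range θ)) from
    this N a (fun z hz => Ideal.mul_mem_right _ _ (hN hz)) ha
  intro j
  induction j with
  | zero => intro a h ha; exact absurd (by simpa using h 1 (by simp)) ha
  | succ j ih =>
    intro a h ha
    by_cases hall : ∀ i, X i * a ∈ sat (Ideal.span (Set.range θ))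
    · obtain ⟨t, ht⟩ := exists_sub_mem_sat θ c hc hmin hall
      obtain ⟨c₀, hc₀⟩ : ∃ c₀, (aeval (0 : Fin n → k) : MvPolynomial (Fin n) k →ₐ[k] k) t = c₀ := ⟨_, rfl⟩
      have htc : a - C c₀ * c.det ∈ sat (Ideal.span (Set.range θ)) := by
        have h2 := det_mul_mem_sat θ c hc (hc₀ ▸ sub_C_mem_origin t : t - C c₀ ∈ origin k n)
        have := add_mem ht h2
        rwa [show a - t * c.det + (t - C c₀) * c.det = a - C c₀ * c.det by ring] at this
      have hc0 : c₀ ≠ 0 := fun h0 => ha (by simpa [h0] using htc)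
      refine ⟨C c₀⁻¹, mem_of_C_mul_mem hc0 ?_⟩
      rw [mul_sub, ← mul_assoc, ← map_mul, mul_inv_cancel₀ hc0, map_one, one_mul]
      exact htc
    · push Not at hall
      obtain ⟨i, hi⟩ := hall
      obtain ⟨r, hr⟩ := ih (X i * a) (mul_mem_sat_of_X_mul h i) hi
      exact ⟨r * X i, by rwa [mul_assoc]⟩

include hc hmin in
lemma det_notMem_sat : c.det ∉ sat (Ideal.span (Set.range θ)) := by
  intro hdet
  have h1 : (1 : MvPolynomial (Fin n) k) ∉ sat (Ideal.span (Set.range θ)) := by
    intro h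
    obtain ⟨w, hw, hw1⟩ := mem_sat.1 h
    refine hw ((Ideal.span_le.2 ?_) (by simpa using hw1))
    rintro _ ⟨i, rfl⟩
    rw [hc]
    exact sum_mem fun j _ => Ideal.mul_mem_left _ _ (by simp [RingHom.mem_ker])
  obtain ⟨N, hN⟩ := exists_origin_pow_le θ hmin
  suffices ∀ j a, (∀ z ∈ origin k n ^ j, z * a ∈ sat (Ideal.span (Set.range θ))) →
      a ∈ sat (Ideal.span (Set.range θ)) from h1 (this N 1 fun z hz => by simpa using hN hz)
  intro j
  induction j with
  | zero => intro a h; simpa using h 1 (by simp)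
  | succ j ih =>
    intro a h
    obtain ⟨t, ht⟩ := exists_sub_mem_sat θ c hc hmin (a := a) fun i => ih _ (mul_mem_sat_of_X_mul h i)
    simpa using add_mem ht (Ideal.mul_mem_left _ t hdet)

end Groth.Agent.GorInv28
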